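/-
The fixed points of a diagram symmetry in a Chevalley group.

* `sigma_xg`, `sigma_ng`, `sigma_diag`, `sigma_n`.
* `exists_folded` : a word whose positivity pattern commutes with the symmetry is congruent modulo the torus
  to an element of the monomial subgroup of the group of orbit elements.
* `fixed_mem_G0` : if the fixed torus elements lie in `G0`, so do all fixed elements.
-/
import Cfsg.Agent.Lib.TwistE6D4.Facts
import Cfsg.Agent.Lib.RGD.NormalForm
import Cfsg.Agent.Lib.TrialityFix.Gen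

set_option autoImplicit false

namespace Cfsg.Agent.TrialityFix

open Cfsg.Lie Cfsg.Lie.ChevalleyDatum Cfsg.Agent.Chev Cfsg.Agent.TwistE6D4
open Cfsg.Agent.ChevBN (Roots ng hg xg chevRGD wN)

variable {D : ChevalleyDatum} {K : Type*} [Field K] {M : List (List ℤ)} {d : ℤ}

section Sigma

variable {T : Twist D}

theorem sigma_xg (hT : TwistOK T) (hD : Good D) {r : ℕ} (hr : r < D.nroots) (t : K) :
    TwistE6D4.sigma hT (RingHom.id K) (xg hD K r t) = xg hD K (T.rho r) ((T.eps r : K) * t) := by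
  rw [TwistE6D4.xg_eq, TwistE6D4.xg_eq, sigma_gx hT hD _ hr, RingHom.id_apply]

theorem sigma_ng (hT : TwistOK T) (hD : Good D) {r : ℕ} (hr : r < D.nroots) (t : K) :
    TwistE6D4.sigma hT (RingHom.id K) (ng hD K r t) = ng hD K (T.rho r) ((T.eps r : K) * t) := by
  have he : ((T.eps r : K))⁻¹ = (T.eps r : K) := inv_eq_of_mul_eq_one_right (hT.eps_cast_sq hr)
  have h : (T.eps r : K) * -t⁻¹ = -((T.eps r : K) * t)⁻¹ := by
    rw [_root_.mul_inv_rev, he]; ring
  simp only [ChevBN.ng, map_mul, sigma_xg hT hD hr, sigma_xg hT hD (hD.neg_lt r hr), hT.rho_neg r hr,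
    hT.eps_neg r hr, h]

theorem sigma_diag (hT : TwistOK T) (hD : Good D) {g : GL D.Idx K} (h : g ∈ D.diagonalSubgroup K) :
    TwistE6D4.sigma hT (RingHom.id K) g ∈ D.diagonalSubgroup K := by
  refine ((Subgroup.closure_le ((D.diagonalSubgroup K).comap (TwistE6D4.sigma hT (RingHom.id K)))).2 ?_) h
  rintro x ⟨r, t, hr, ht, e⟩
  obtain rfl : x = hg hD K r t := Units.ext (e.trans (ChevBN.coe_hg hD r t).symm)
  show TwistE6D4.sigma hT (RingHom.id K) (hg hD K r t) ∈ D.diagonalSubgroup K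
  have he : (T.eps r : K) ≠ 0 := left_ne_zero_of_mul_eq_one (hT.eps_cast_sq hr)
  rw [ChevBN.hg, map_mul, sigma_ng hT hD hr, sigma_ng hT hD hr]
  exact ChevBN.ng_mul_mem hD _ (hT.rho_lt r hr) (mul_ne_zero he ht)
    (mul_ne_zero he (neg_ne_zero.2 one_ne_zero))

end Sigma

/-- The symmetry commutes with the fundamental reflections, and the reflections of one simple orbit fix each
other's roots. -/
structure FoldOK (C : Ctx D K) : Prop where
  wN_rho : ∀ i : Fin D.rank, ∀ q < D.nroots, wN D (C.T.pi i).val (C.T.rho q) = C.T.rho (wN D i.val q)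
  wN_orbit : ∀ a, ∀ k < C.L a, ∀ l < C.L a, k ≠ l →
    wN D (C.nd a k).val (D.simple (C.nd a l).val) = D.simple (C.nd a l).val

variable (C : Ctx D K)

theorem eps_simple (i : Fin D.rank) : C.T.eps (D.simple i.val) = 1 := by
  obtain ⟨a, k, hk, rfl⟩ := C.nd_surj i
  rw [← C.rk_eq]
  exact C.hR.eps_one a k hk

/-- The roots as indices. -/
def rhoF (r : Fin D.nroots) : Fin D.nroots := ⟨C.T.rho r.val, C.hT.rho_lt r.val r.isLt⟩

theorem rhoF_simple (i : Fin D.rank) :
    rhoF C ⟨D.simple i.val, C.hD.simple_lt i.val i.isLt⟩ =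
      ⟨D.simple (C.T.pi i).val, C.hD.simple_lt _ (C.T.pi i).isLt⟩ :=
  Fin.ext (C.hR.simple_pi i)

variable (hR : Roots D M d)

theorem sigma_n (i : Fin D.rank) :
    TwistE6D4.sigma C.hT (RingHom.id K) ((chevRGD C.hD hR K).n i) = (chevRGD C.hD hR K).n (C.T.pi i) := by
  show TwistE6D4.sigma C.hT (RingHom.id K) (ng C.hD K (D.simple i.val) 1) = ng C.hD K (D.simple (C.T.pi i).val) 1
  rw [sigma_ng C.hT C.hD (C.hD.simple_lt _ i.isLt), C.hR.simple_pi, eps_simple, Int.cast_one, one_mul]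

theorem sigma_nw (l : List (Fin D.rank)) :
    TwistE6D4.sigma C.hT (RingHom.id K) ((chevRGD C.hD hR K).nw l) = (chevRGD C.hD hR K).nw (l.map C.T.pi) := by
  simp only [RGD.RootData.nw, map_list_prod, List.map_map]
  exact congrArg List.prod (List.map_congr_left fun i _ => sigma_n C hR i)

theorem pos_rhoF (r : Fin D.nroots) :
    (chevRGD C.hD hR K).pos (rhoF C r) ↔ (chevRGD C.hD hR K).pos r := by
  show D.IsPosRoot (C.T.rho r.val) ↔ D.IsPosRoot r.val
  rw [C.hT.ht_pos _ (C.hT.rho_lt r.val r.isLt), C.hT.ht_rho _ r.isLt, C.hT.ht_pos _ r.isLt]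

theorem ww_rhoF (hF : FoldOK C) (r : Fin D.nroots) : ∀ l : List (Fin D.rank),
    (chevRGD C.hD hR K).ww (l.map C.T.pi) (rhoF C r) = rhoF C ((chevRGD C.hD hR K).ww l r)
  | [] => rfl
  | i :: l => by
    rw [List.map_cons, RGD.RootData.ww_cons, RGD.RootData.ww_cons, ww_rhoF hF r l]
    exact Fin.ext (hF.wN_rho i _ ((chevRGD C.hD hR K).ww l r).isLt)

/-- The word of a simple orbit. -/
def orbL (a : Fin C.m) : List (Fin D.rank) := (List.range (C.L a)).map (C.nd a)

theorem ww_list_val (L : List (Fin D.rank)) (q : Fin D.nroots) :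
    ((chevRGD C.hD hR K).ww L q).val = wL D (L.map fun i => D.simple i.val) q.val := by
  induction L with
  | nil => rfl
  | cons i L ih =>
    show wN D i.val ((chevRGD C.hD hR K).ww L q).val = _
    rw [ih]; rfl

theorem ww_orbL (a : Fin C.m) (q : Fin D.nroots) :
    ((chevRGD C.hD hR K).ww (orbL C a) q).val = wF C.T (C.node a) q.val := by
  rw [ww_list_val C hR, orbL, List.map_map, ← C.wF_eq a]
  refine congrArg (fun L => wL D L q.val) (List.map_congr_left fun k _ => ?_)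
  rw [Function.comp_apply, C.rk_eq]

theorem ns_eq_nw (a : Fin C.m) : C.ns a 1 = (chevRGD C.hD hR K).nw (orbL C a) := by
  rw [Ctx.ns, Ctx.oprod, RGD.RootData.nw, orbL, List.map_map]
  refine congrArg List.prod (List.map_congr_left fun k _ => ?_)
  rw [← RingHom.coe_pow, map_one, Function.comp_apply, C.rk_eq]
  rfl

/-- Positivity along a word commutes with the symmetry. -/
def Sym (l : List (Fin D.rank)) : Prop :=
  ∀ r, (chevRGD C.hD hR K).pos ((chevRGD C.hD hR K).ww l (rhoF C r)) ↔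
    (chevRGD C.hD hR K).pos ((chevRGD C.hD hR K).ww l r)

theorem shorten_many : ∀ (L l : List (Fin D.rank)),
    (∀ i ∈ L, ¬ (chevRGD C.hD hR K).pos
      ((chevRGD C.hD hR K).ww l ((chevRGD C.hD hR K).simple i))) →
    L.Pairwise (fun i j => (chevRGD C.hD hR K).w i ((chevRGD C.hD hR K).simple j) =
      (chevRGD C.hD hR K).simple j) →
    ∃ l', l'.length + L.length = l.length ∧
      ∃ k ∈ (chevRGD C.hD hR K).H,
        (chevRGD C.hD hR K).nw (l ++ L) = k * (chevRGD C.hD hR K).nw l'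
  | [], l, _, _ => ⟨l, by simp, 1, one_mem _, by simp⟩
  | i :: L, l, hneg, hp => by
    obtain ⟨hp1, hp2⟩ := List.pairwise_cons.1 hp
    obtain ⟨l1, hlen, k, hk, e⟩ := (chevRGD C.hD hR K).exists_shorter (hneg i (List.mem_cons_self ..))
    obtain ⟨l', hlen', k', hk', e'⟩ := shorten_many L l1 (fun j hj => by
      rw [← (chevRGD C.hD hR K).pos_ww_congr hk e, RGD.RootData.ww_append, RGD.RootData.ww_cons,
        RGD.RootData.ww_nil, hp1 j hj]
      exact hneg j (List.mem_cons_of_mem _ hj)) hp2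
    refine ⟨l', by simp only [List.length_cons]; omega, k * k', mul_mem hk hk', ?_⟩
    rw [show l ++ i :: L = (l ++ [i]) ++ L by simp, RGD.RootData.nw_append, e, mul_assoc,
      ← RGD.RootData.nw_append, e', mul_assoc]

theorem orbL_pairwise (hF : FoldOK C) (a : Fin C.m) :
    (orbL C a).Pairwise (fun i j => (chevRGD C.hD hR K).w i ((chevRGD C.hD hR K).simple j) =
      (chevRGD C.hD hR K).simple j) := by
  rw [orbL, List.pairwise_map]
  exact range_pairwise fun k hk l hl hkl => Fin.ext (hF.wN_orbit a k hk l hl hkl)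

theorem sym_orbit (a : Fin C.m) {l : List (Fin D.rank)} (hl : Sym C hR l) :
    Sym C hR (l ++ orbL C a) := by
  intro r
  have e : (chevRGD C.hD hR K).ww (orbL C a) (rhoF C r) =
      rhoF C ((chevRGD C.hD hR K).ww (orbL C a) r) := by
    refine Fin.ext ?_
    show _ = C.T.rho _
    rw [ww_orbL, ww_orbL]
    exact C.hR.wF_rho a _ r.isLt
  rw [RGD.RootData.ww_append, RGD.RootData.ww_append, e]
  exact hl _

theorem exists_folded (hF : FoldOK C) : ∀ (n : ℕ) (l : List (Fin D.rank)), l.length = n → Sym C hR l →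
    ∃ n₀ ∈ C.rgd.N, ∃ h ∈ (chevRGD C.hD hR K).H, (chevRGD C.hD hR K).nw l = h * n₀ := by
  intro n
  induction n using Nat.strong_induction_on with
  | _ n ih =>
    intro l hn hs
    set R := chevRGD C.hD hR K with hRdef
    rcases List.eq_nil_or_concat' l with rfl | ⟨l₀, j, rfl⟩
    · exact ⟨1, one_mem _, 1, one_mem _, by simp⟩
    by_cases hj : R.pos (R.ww (l₀ ++ [j]) (R.simple j))
    · rw [RGD.RootData.ww_append, RGD.RootData.ww_cons, RGD.RootData.ww_nil, R.w_simple, R.ww_neg,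
        R.pos_neg] at hj
      obtain ⟨l', hlen, k, hk, e⟩ := R.exists_shorter hj
      have hs' : Sym C hR l' := fun r => by
        rw [← R.pos_ww_congr hk e, ← R.pos_ww_congr hk e]; exact hs r
      obtain ⟨n₀, hn₀, h, hh, e'⟩ := ih l'.length (by subst hn; simp; omega) l' rfl hs'
      exact ⟨n₀, hn₀, k * h, mul_mem hk hh, by rw [e, e', mul_assoc]⟩
    · set l := l₀ ++ [j] with hldef
      obtain ⟨a, k₁, hk₁, hjk⟩ := C.nd_surj j
      have hnd : ∀ k, R.pos (R.ww l (R.simple (C.nd a k))) ↔ R.pos (R.ww l (R.simple (C.node a))) := by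
        intro k
        induction k with
        | zero => rfl
        | succ k ihk =>
          rw [show C.nd a (k + 1) = C.T.pi (C.nd a k) by simp only [Ctx.nd, Function.iterate_succ_apply'],
            ← ihk]
          have h := hs (R.simple (C.nd a k))
          rwa [show rhoF C (R.simple (C.nd a k)) = R.simple (C.T.pi (C.nd a k)) from
            rhoF_simple C (C.nd a k)] at h
      have h0 : ¬ R.pos (R.ww l (R.simple (C.node a))) := by
        rw [← hnd k₁, hjk]; exact hj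
      obtain ⟨l', hlen, k, hk, e⟩ := shorten_many C hR (orbL C a) l (fun i hi => by
        obtain ⟨k, -, rfl⟩ := List.mem_map.1 hi
        exact fun h => h0 ((hnd k).1 h)) (orbL_pairwise C hR hF a)
      have hs' : Sym C hR l' := fun r => by
        rw [← R.pos_ww_congr hk e, ← R.pos_ww_congr hk e]; exact sym_orbit C hR a hs r
      have hpos := C.L_pos a
      obtain ⟨n₀, hn₀, h, hh, e'⟩ := ih l'.length (by subst hn; simp [orbL] at hlen; omega) l' rfl hs'
      refine ⟨n₀ * (C.ns a 1)⁻¹, mul_mem hn₀ (inv_mem (C.rgd.n_mem_N a)), k * h, mul_mem hk hh, ?_⟩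
      have e2 : R.nw l * C.ns a 1 = k * (h * n₀) := by
        rw [ns_eq_nw C hR a, ← e', ← e]; exact (R.nw_append l (orbL C a)).symm
      rw [← mul_inv_cancel_right (R.nw l) (C.ns a 1), e2]
      group

include hR in
/-- If the fixed torus elements lie in `G0`, all fixed elements of the group do. -/
theorem fixed_mem_G0 (hφ : C.φ = RingHom.id K) (hF : FoldOK C)
    (htor : ∀ h ∈ D.diagonalSubgroup K, h ∈ Fix C.hT C.φ → h ∈ C.G0)
    {g : GL D.Idx K} (hg : g ∈ D.group K) (hgf : g ∈ Fix C.hT C.φ) : g ∈ C.G0 := by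
  set R := chevRGD C.hD hR K with hRdef
  set σ := TwistE6D4.sigma C.hT C.φ with hσdef
  have hfix : ∀ x : GL D.Idx K, x ∈ Fix C.hT C.φ ↔ σ x = x := fun x => Iff.rfl
  have hσn : ∀ l, σ (R.nw l) = R.nw (l.map C.T.pi) := fun l => by
    rw [hσdef, hφ]; exact sigma_nw C hR l
  have hσU : ∀ x ∈ R.Upos, σ x ∈ R.Upos := by
    intro x hx
    rw [ChevBN.chev_Upos C.hD hR, C.posUnipotent_eq] at hx ⊢
    refine UT_induction C.hD hx (P := fun x => σ x ∈ UT C.hD K C.posSet) (fun q hq u => ?_)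
      (by simp [one_mem]) (fun a _ b _ pa pb => by simpa using mul_mem pa pb)
    rw [hσdef, sigma_gx C.hT C.hD C.φ hq.1]
    exact gx_mem_UT C.hD (C.posSet_ok.stable q hq) _
  have hσH : ∀ x ∈ R.H, σ x ∈ R.H := fun x hx => by
    rw [hσdef, hφ]; exact sigma_diag C.hT C.hD hx
  rw [← ChevBN.chev_G C.hD hR] at hg
  obtain ⟨b, hb, l, u, hu, e⟩ := R.exists_normalForm hg
  obtain ⟨v, hv, h, hh, hvh⟩ := R.exists_B hb
  have hσb : σ b ∈ R.B := by
    rw [hvh, map_mul]; exact mul_mem (R.Upos_le_B (hσU v hv)) (R.H_le_B (hσH h hh))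
  have hge : σ g = g := hgf
  have e1 : b * R.nw l * u = σ b * R.nw (l.map C.T.pi) * σ u := by
    rw [← hσn, ← map_mul, ← map_mul, ← e, hge, e]
  have hk : (R.nw l)⁻¹ * R.nw (l.map C.T.pi) ∈ R.H :=
    R.mem_H_of_eq (R.nw_mem_N l) (R.nw_mem_N _) hb (R.Upos_le_B (R.Uminus_le_Upos l hu)) hσb
      (R.Upos_le_B (hσU u (R.Uminus_le_Upos l hu))) e1
  have hk' : R.nw (l.map C.T.pi) * (R.nw l)⁻¹ ∈ R.H := by
    have := R.nw_conj_H l hk
    simpa using this
  have hcongr := fun r => R.pos_ww_congr hk' (by group : R.nw (l.map C.T.pi) = _ * R.nw l) r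
  have hs : Sym C hR l := fun r => by
    rw [← hcongr, ww_rhoF C hR hF, pos_rhoF C hR]
  have hσu : σ u ∈ R.Uminus l := by
    have hle : R.Uminus l ≤ (R.Uminus l).comap σ := by
      refine R.span_le fun r hr x hx => ?_
      obtain ⟨t, rfl⟩ := (ChevBN.mem_rootSubgroup C.hD _).1 hx
      show σ (xg C.hD K r.val t) ∈ R.Uminus l
      rw [hσdef, hφ, sigma_xg C.hT C.hD r.isLt]
      exact R.U_le_span (A := {r | R.pos r ∧ ¬ R.pos (R.ww l r)}) (r := rhoF C r)
        ⟨(pos_rhoF C hR r).2 hr.1, fun h' => hr.2 ((hs r).1 h')⟩ (ChevBN.xg_mem_rootSubgroup C.hD _ _)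
    exact hle hu
  obtain ⟨n₀, hn₀, k, hkH, en⟩ := exists_folded C hR hF _ l rfl hs
  have hn0G : n₀ ∈ C.G0 := C.rgd_G ▸ C.rgd.N_le_G hn₀
  have hn0f : σ n₀ = n₀ := C.G0_le_Fix hn0G
  have en' : n₀ = k⁻¹ * R.nw l := by rw [en]; group
  have e2 : g = b * k * n₀ * u := by rw [e, en]; group
  have e3 : b * k * n₀ * u = σ (b * k) * n₀ * σ u := by
    rw [← e2, ← hge, e2, map_mul, map_mul, hn0f]
  have hbk : b * k ∈ R.B := mul_mem hb (R.H_le_B hkH)
  have hσbk : σ (b * k) ∈ R.B := by rw [map_mul]; exact mul_mem hσb (R.H_le_B (hσH k hkH))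
  obtain ⟨ebb, euu⟩ := R.normalForm_unique (inv_mem hkH) en' hbk hσbk hu hσu e3
  have hUfix : ∀ x ∈ R.Upos, σ x = x → x ∈ C.G0 := fun x hx hxf => by
    rw [ChevBN.chev_Upos C.hD hR, C.posUnipotent_eq] at hx
    have : x ∈ C.rgd.Upos := C.Upos_eq ▸ Subgroup.mem_inf.2 ⟨hx, hxf⟩
    exact C.rgd_G ▸ C.rgd.B_le_G (C.rgd.Upos_le_B this)
  obtain ⟨v', hv', h', hh', e4⟩ := R.exists_B hbk
  have h4 : v'⁻¹ * σ v' = h' * (σ h')⁻¹ := by
    have e5 : v' * h' = σ v' * σ h' := by rw [← map_mul, ← e4]; exact ebb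
    rw [inv_mul_eq_iff_eq_mul, ← mul_assoc, e5, mul_inv_cancel_right]
  have h5 : v'⁻¹ * σ v' ∈ R.Upos ⊓ R.H :=
    Subgroup.mem_inf.2 ⟨mul_mem (inv_mem hv') (hσU v' hv'), h4 ▸ mul_mem hh' (inv_mem (hσH h' hh'))⟩
  rw [show R.Upos ⊓ R.H = ⊥ from R.U_inf_H, Subgroup.mem_bot] at h5
  have hv'f : σ v' = v' := (inv_mul_eq_one.1 h5).symm
  rw [h5] at h4
  have hh'f : σ h' = h' := (mul_inv_eq_one.1 h4.symm).symm
  rw [e2, e4]
  exact mul_mem (mul_mem (mul_mem (hUfix v' hv' hv'f) (htor h' hh' hh'f)) hn0G)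
    (hUfix u (R.Uminus_le_Upos l hu) euu.symm)

end Cfsg.Agent.TrialityFix
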