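/-
The embedding of the G₂ Lie algebra in the D₄ one as the span of the orbit sums of the triality symmetry.

* `pEmb`, `pInv`, `pInv_mul` : the embedding and a left inverse.
* `Rel`: `x * P = P * y`; `rel_adE_*` : the relation for the orbit sums of simple root vectors.
* `rel_prod` : the relation passes to products of commuting root elements.
-/
import Cfsg.Agent.Lib.Chev.DataG2
import Cfsg.Agent.Lib.Chev.DataD4
import Cfsg.Prelude.Def_ChevG2

set_option autoImplicit false
set_option maxRecDepth 100000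

namespace Cfsg.Agent.TrialityFix

open Cfsg.Lie Cfsg.Lie.ChevalleyDatum Cfsg.Agent.Chev Matrix Polynomial

/-- The number of a coordinate of a datum. -/
def code {D : ChevalleyDatum} : D.Idx → ℕ :=
  Sum.elim (fun i => i.val) (fun r => D.rank + r.val)

/-- The columns of the embedding. -/
def pCols : List (List (ℕ × ℤ)) :=
  [[(0, 1), (2, 1), (3, 1)], [(1, 1)], [(4, -1)], [(5, -1)], [(6, -1), (7, -1), (10, 1)],
   [(8, 1), (11, -1), (12, -1)], [(9, 1), (14, 1), (15, 1)], [(13, 1)], [(18, 1)],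
   [(16, 1), (17, 1), (22, 1)], [(19, -1), (20, -1), (23, 1)], [(21, 1), (24, -1), (25, -1)],
   [(26, -1)], [(27, -1)]]

/-- One coordinate with its sign for each column of the embedding. -/
def pPiv : List (ℕ × ℤ) :=
  [(0, 1), (1, 1), (4, -1), (5, -1), (6, -1), (8, 1), (9, 1), (13, 1), (18, 1), (16, 1), (19, -1),
   (21, 1), (26, -1), (27, -1)]

/-- The embedding. -/
def pEmb : Matrix chevD4.Idx chevG2.Idx ℤ :=
  Matrix.of fun a b => (((pCols.getD (code b) []).filter fun p => p.1 == code a).map Prod.snd).sum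

/-- A left inverse of the embedding. -/
def pInv : Matrix chevG2.Idx chevD4.Idx ℤ :=
  Matrix.of fun b a => if (pPiv.getD (code b) (28, 0)).1 = code a then (pPiv.getD (code b) (28, 0)).2 else 0

theorem pInv_mul : pInv * pEmb = 1 := by decide +kernel

theorem rel_adE_short_pos :
    (adE chevD4 ℤ 18 + adE chevD4 ℤ 13 + adE chevD4 ℤ 12) * pEmb = pEmb * adE chevG2 ℤ 7 := by
  decide +kernel

theorem rel_adE_short_neg :
    (adE chevD4 ℤ 5 + adE chevD4 ℤ 10 + adE chevD4 ℤ 11) * pEmb = pEmb * adE chevG2 ℤ 4 := by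
  decide +kernel

theorem rel_adE_long_pos : adE chevD4 ℤ 14 * pEmb = pEmb * adE chevG2 ℤ 6 := by decide +kernel

theorem rel_adE_long_neg : adE chevD4 ℤ 9 * pEmb = pEmb * adE chevG2 ℤ 5 := by decide +kernel

theorem commute_short_pos : Commute (adE chevD4 ℤ 18) (adE chevD4 ℤ 13) ∧
    Commute (adE chevD4 ℤ 18) (adE chevD4 ℤ 12) ∧ Commute (adE chevD4 ℤ 13) (adE chevD4 ℤ 12) := by
  refine ⟨?_, ?_, ?_⟩ <;> unfold Commute SemiconjBy <;> decide +kernel

theorem commute_short_neg : Commute (adE chevD4 ℤ 5) (adE chevD4 ℤ 10) ∧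
    Commute (adE chevD4 ℤ 5) (adE chevD4 ℤ 11) ∧ Commute (adE chevD4 ℤ 10) (adE chevD4 ℤ 11) := by
  refine ⟨?_, ?_, ?_⟩ <;> unfold Commute SemiconjBy <;> decide +kernel

/-! ### Rectangular polynomial matrices -/

section Deriv

variable {n m o : Type*} [Fintype n]

/-- Entrywise derivative of a rectangular matrix. -/
noncomputable def dR (M : Matrix m o ℤ[X]) : Matrix m o ℤ[X] := M.map derivative

theorem dR_mul (M : Matrix m n ℤ[X]) (N : Matrix n o ℤ[X]) : dR (M * N) = dR M * N + M * dR N := by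
  ext a b
  simp [dR, Matrix.mul_apply, derivative_mul, Finset.sum_add_distrib]

theorem dR_map_C (M : Matrix m o ℤ) : dR (M.map C) = 0 := by
  ext a b
  simp [dR]

theorem ode_uniqueR (A : Matrix n n ℤ) (F G : Matrix n o ℤ[X]) (hF : dR F = A.map C * F)
    (hG : dR G = A.map C * G) (h0 : F.map (eval 0) = G.map (eval 0)) : F = G := by
  have key : ∀ k a b, (F a b).coeff k = (G a b).coeff k := by
    intro k
    induction k with
    | zero =>
      intro a b
      simpa [coeff_zero_eq_eval_zero] using congrFun (congrFun h0 a) b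
    | succ k ih =>
      intro a b
      have hF' := congrArg (fun p => Polynomial.coeff p k) (congrFun (congrFun hF a) b)
      have hG' := congrArg (fun p => Polynomial.coeff p k) (congrFun (congrFun hG a) b)
      simp only [dR, Matrix.map_apply, Matrix.mul_apply, finsetSum_coeff, coeff_C_mul,
        coeff_derivative] at hF' hG'
      have hsum : (F a b).coeff (k + 1) * ((k : ℤ) + 1) = (G a b).coeff (k + 1) * ((k : ℤ) + 1) := by
        rw [hF', hG']
        exact Finset.sum_congr rfl fun c _ => by rw [ih c b]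
      exact mul_right_cancel₀ (by omega) hsum
  ext a b : 1
  exact Polynomial.ext fun k => key k a b

end Deriv

section Root

variable {D : ChevalleyDatum} (hD : Good D)
include hD

theorem dR_xR {r : ℕ} (hr : r < D.nroots) :
    dR (xR D ℤ[X] r X) = (adE D ℤ r).map C * xR D ℤ[X] r X := by
  have h := hD.dM_xR' (R := ℤ) hr X
  rw [derivative_X, one_smul, ← adE_map D (C : ℤ →+* ℤ[X]) r] at h
  exact h

theorem xR_eval_zero {r : ℕ} (hr : r < D.nroots) : (xR D ℤ[X] r X).map (eval 0) = 1 := by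
  rw [← coe_evalRingHom, xR_map, coe_evalRingHom, eval_X, hD.xR_zero' hr]

theorem commute_xR {r s : ℕ} (hr : r < D.nroots) (h : Commute (adE D ℤ r) (adE D ℤ s)) :
    Commute (xR D ℤ[X] r X) ((adE D ℤ s).map C) := by
  refine ode_uniqueR (adE D ℤ r) _ _ ?_ ?_ ?_
  · rw [dR_mul, dR_map_C, dR_xR hD hr, mul_zero, add_zero, mul_assoc]
  · rw [dR_mul, dR_map_C, dR_xR hD hr, zero_mul, zero_add, ← mul_assoc, ← mul_assoc, ← Matrix.map_mul,
      ← Matrix.map_mul, h.eq]
  · rw [← coe_evalRingHom, Matrix.map_mul, Matrix.map_mul, coe_evalRingHom, xR_eval_zero hD hr,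
      one_mul, mul_one]

end Root

/-- Evaluation of an identity between polynomial matrices. -/
theorem map_eval_eq {m o : Type*} {F G : Matrix m o ℤ[X]} (h : F = G) {R : Type*} [CommRing R] (t : R) :
    F.map (eval₂RingHom (Int.castRingHom R) t) = G.map (eval₂RingHom (Int.castRingHom R) t) := by rw [h]

theorem map_C_eval {m o : Type*} (P : Matrix m o ℤ) {R : Type*} [CommRing R] (t : R) :
    (P.map C).map (eval₂RingHom (Int.castRingHom R) t) = P.map (Int.cast : ℤ → R) := by
  ext a b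
  exact map_intCast (eval₂RingHom (Int.castRingHom R) t) (P a b)

theorem rel_one {D D' : ChevalleyDatum} (hD : Good D) (hD' : Good D') (P : Matrix D.Idx D'.Idx ℤ)
    {r s : ℕ} (hr : r < D.nroots) (hs : s < D'.nroots) (H : adE D ℤ r * P = P * adE D' ℤ s)
    {R : Type*} [CommRing R] (t : R) :
    xR D R r t * P.map (Int.cast : ℤ → R) = P.map (Int.cast : ℤ → R) * xR D' R s t := by
  have key : xR D ℤ[X] r X * P.map C = P.map C * xR D' ℤ[X] s X := by
    refine ode_uniqueR (adE D ℤ r) _ _ ?_ ?_ ?_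
    · rw [dR_mul, dR_map_C, dR_xR hD hr, Matrix.mul_zero, add_zero, Matrix.mul_assoc]
    · rw [dR_mul, dR_map_C, dR_xR hD' hs, Matrix.zero_mul, zero_add, ← Matrix.mul_assoc, ← Matrix.map_mul,
        ← H, Matrix.map_mul, Matrix.mul_assoc]
    · rw [← coe_evalRingHom, Matrix.map_mul, Matrix.map_mul, coe_evalRingHom, xR_eval_zero hD hr,
        xR_eval_zero hD' hs, Matrix.one_mul, Matrix.mul_one]
  have h := map_eval_eq key t
  simp only [Matrix.map_mul, xR_map, map_C_eval] at h
  simpa using h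

theorem rel_three {D D' : ChevalleyDatum} (hD : Good D) (hD' : Good D') (P : Matrix D.Idx D'.Idx ℤ)
    {r₁ r₂ r₃ s : ℕ} (h1 : r₁ < D.nroots) (h2 : r₂ < D.nroots) (h3 : r₃ < D.nroots) (hs : s < D'.nroots)
    (c12 : Commute (adE D ℤ r₁) (adE D ℤ r₂)) (c13 : Commute (adE D ℤ r₁) (adE D ℤ r₃))
    (c23 : Commute (adE D ℤ r₂) (adE D ℤ r₃))
    (H : (adE D ℤ r₁ + adE D ℤ r₂ + adE D ℤ r₃) * P = P * adE D' ℤ s)
    {R : Type*} [CommRing R] (t : R) :
    xR D R r₁ t * xR D R r₂ t * xR D R r₃ t * P.map (Int.cast : ℤ → R) =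
      P.map (Int.cast : ℤ → R) * xR D' R s t := by
  have key : xR D ℤ[X] r₁ X * xR D ℤ[X] r₂ X * xR D ℤ[X] r₃ X * P.map C = P.map C * xR D' ℤ[X] s X := by
    refine ode_uniqueR (adE D ℤ r₁ + adE D ℤ r₂ + adE D ℤ r₃) _ _ ?_ ?_ ?_
    · have k12 := (commute_xR hD h1 c12).eq
      have k13 := (commute_xR hD h1 c13).eq
      have k23 := (commute_xR hD h2 c23).eq
      have e2 : xR D ℤ[X] r₁ X * ((adE D ℤ r₂).map C * xR D ℤ[X] r₂ X) =
          (adE D ℤ r₂).map C * (xR D ℤ[X] r₁ X * xR D ℤ[X] r₂ X) := by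
        rw [← mul_assoc, k12, mul_assoc]
      have e3 : xR D ℤ[X] r₁ X * xR D ℤ[X] r₂ X * ((adE D ℤ r₃).map C * xR D ℤ[X] r₃ X) =
          (adE D ℤ r₃).map C * (xR D ℤ[X] r₁ X * xR D ℤ[X] r₂ X * xR D ℤ[X] r₃ X) := by
        rw [← mul_assoc, mul_assoc (xR D ℤ[X] r₁ X), k23, ← mul_assoc, k13]
        simp only [mul_assoc]
      have h123 : dR (xR D ℤ[X] r₁ X * xR D ℤ[X] r₂ X * xR D ℤ[X] r₃ X) =
          (adE D ℤ r₁ + adE D ℤ r₂ + adE D ℤ r₃).map C *
            (xR D ℤ[X] r₁ X * xR D ℤ[X] r₂ X * xR D ℤ[X] r₃ X) := by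
        rw [dR_mul, dR_mul, dR_xR hD h1, dR_xR hD h2, dR_xR hD h3, e2, e3,
          Matrix.map_add _ (map_add _), Matrix.map_add _ (map_add _), add_mul, add_mul, add_mul]
        simp only [mul_assoc]
      rw [dR_mul, dR_map_C, h123, Matrix.mul_zero, add_zero, Matrix.mul_assoc]
    · rw [dR_mul, dR_map_C, dR_xR hD' hs, Matrix.zero_mul, zero_add, ← Matrix.mul_assoc, ← Matrix.map_mul,
        ← H, Matrix.map_mul, Matrix.mul_assoc]
    · rw [← coe_evalRingHom, Matrix.map_mul, Matrix.map_mul, Matrix.map_mul, Matrix.map_mul,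
        coe_evalRingHom, xR_eval_zero hD h1, xR_eval_zero hD h2, xR_eval_zero hD h3, xR_eval_zero hD' hs,
        one_mul, one_mul, Matrix.one_mul, Matrix.mul_one]
  have h := map_eval_eq key t
  simp only [Matrix.map_mul, xR_map, map_C_eval] at h
  simpa using h

end Cfsg.Agent.TrialityFix
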