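/-
The orbit elements of the triality of D₄ generate a copy of G₂.

* `toG2 g h` : `g` restricts to `h` along the embedding.
* `nonempty_iso` : `G0 ≅ chevG2.group`.
-/
import Cfsg.Agent.Lib.TrialityFix.Fixed
import Cfsg.Agent.Lib.TrialityFix.Table
import Cfsg.Agent.Lib.ChevBN.RootTables

set_option autoImplicit false
set_option maxRecDepth 100000

namespace Cfsg.Agent.TrialityFix

open Cfsg.Lie Cfsg.Lie.ChevalleyDatum Cfsg.Agent.Chev Cfsg.Agent.TwistE6D4 Matrix
open Cfsg.Agent.ChevBN (ng hg xg chevRGD wN)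

variable {K : Type*} [Field K]

variable (K) in
/-- The context of the triality without field automorphism. -/
@[reducible] def triCtx : Ctx chevD4 K := ctxD4 DataD4.good (RingHom.id K)

variable (K) in
/-- The embedding over a field. -/
def pK : Matrix chevD4.Idx chevG2.Idx K := pEmb.map (Int.cast : ℤ → K)

variable (K) in
/-- Its left inverse over a field. -/
def qK : Matrix chevG2.Idx chevD4.Idx K := pInv.map (Int.cast : ℤ → K)

theorem qK_mul : qK K * pK K = 1 := by
  show pInv.map (Int.castRingHom K) * pEmb.map (Int.castRingHom K) = 1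
  rw [← Matrix.map_mul, pInv_mul, Matrix.map_one _ (map_zero _) (map_one _)]

/-- `g` restricts to `h` along the embedding. -/
def Rel (g : GL chevD4.Idx K) (h : GL chevG2.Idx K) : Prop :=
  (g : Matrix chevD4.Idx chevD4.Idx K) * pK K = pK K * (h : Matrix chevG2.Idx chevG2.Idx K)

theorem Rel.one : Rel (1 : GL chevD4.Idx K) 1 := by simp [Rel]

theorem Rel.mul {g g' : GL chevD4.Idx K} {h h' : GL chevG2.Idx K} (a : Rel g h) (b : Rel g' h') :
    Rel (g * g') (h * h') := by
  show _ = _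
  rw [Units.val_mul, Units.val_mul, Matrix.mul_assoc, show (g' : Matrix chevD4.Idx chevD4.Idx K) * pK K = _ from b,
    ← Matrix.mul_assoc, show (g : Matrix chevD4.Idx chevD4.Idx K) * pK K = _ from a, Matrix.mul_assoc]

theorem Rel.inv {g : GL chevD4.Idx K} {h : GL chevG2.Idx K} (a : Rel g h) : Rel g⁻¹ h⁻¹ := by
  show _ = _
  calc ((g⁻¹ : GL chevD4.Idx K) : Matrix chevD4.Idx chevD4.Idx K) * pK K
      = ((g⁻¹ : GL chevD4.Idx K) : Matrix chevD4.Idx chevD4.Idx K) *
          (pK K * (h : Matrix chevG2.Idx chevG2.Idx K)) * ((h⁻¹ : GL chevG2.Idx K) : Matrix chevG2.Idx chevG2.Idx K) := by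
        rw [Matrix.mul_assoc, Matrix.mul_assoc (pK K), ← Units.val_mul, mul_inv_cancel, Units.val_one, Matrix.mul_one]
    _ = _ := by
        rw [← show (g : Matrix chevD4.Idx chevD4.Idx K) * pK K = _ from a, ← Matrix.mul_assoc, ← Units.val_mul,
          inv_mul_cancel, Units.val_one, Matrix.one_mul]

theorem Rel.unique {g : GL chevD4.Idx K} {h h' : GL chevG2.Idx K} (a : Rel g h) (b : Rel g h') : h = h' := by
  refine Units.ext ?_
  have e : pK K * (h : Matrix chevG2.Idx chevG2.Idx K) = pK K * (h' : Matrix chevG2.Idx chevG2.Idx K) :=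
    a.symm.trans b
  simpa [← Matrix.mul_assoc, qK_mul] using congrArg (qK K * ·) e

/-- The elements restricting to a member of a subgroup. -/
def Pre (Y : Subgroup (GL chevG2.Idx K)) : Subgroup (GL chevD4.Idx K) where
  carrier := {g | ∃ h ∈ Y, Rel g h}
  one_mem' := ⟨1, one_mem _, Rel.one⟩
  mul_mem' := by rintro g g' ⟨h, hh, a⟩ ⟨h', hh', b⟩; exact ⟨_, mul_mem hh hh', a.mul b⟩
  inv_mem' := by rintro g ⟨h, hh, a⟩; exact ⟨_, inv_mem hh, a.inv⟩

/-! ### The generators -/

theorem op_prod (a : Fin 2) (t : K) :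
    (triCtx K).op a t =
      (([[18, 13, 12], [14]] : List (List ℕ)).getD a.val [] |>.map fun r => gx DataD4.good K r t).prod ∧
    (triCtx K).om a t =
      (([[5, 10, 11], [9]] : List (List ℕ)).getD a.val [] |>.map fun r => gx DataD4.good K r t).prod := by
  have hrk : ∀ a : Fin 2,
      (List.range (d4Twist.len (chevD4.simple (d4Node a).val))).map
          (fun k => d4Twist.rho^[k] (chevD4.simple (d4Node a).val)) =
        ([[18, 13, 12], [14]] : List (List ℕ)).getD a.val [] ∧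
      (List.range (d4Twist.len (chevD4.simple (d4Node a).val))).map
          (fun k => chevD4.neg (d4Twist.rho^[k] (chevD4.simple (d4Node a).val))) =
        ([[5, 10, 11], [9]] : List (List ℕ)).getD a.val [] := by
    decide +kernel
  have hid : ∀ k : ℕ, (⇑(RingHom.id K))^[k] t = t := fun k => Function.iterate_fixed rfl k
  constructor
  · rw [← (hrk a).1, List.map_map]
    exact congrArg List.prod (List.map_congr_left fun k _ => congrArg _ (hid k))
  · rw [← (hrk a).2, List.map_map]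
    exact congrArg List.prod (List.map_congr_left fun k _ => congrArg _ (hid k))

theorem g2_simple : chevG2.simple 0 = 7 ∧ chevG2.simple 1 = 6 ∧ chevG2.neg 7 = 4 ∧ chevG2.neg 6 = 5 := by
  decide +kernel

theorem rel_op (a : Fin 2) (t : K) :
    Rel ((triCtx K).op a t) (xg DataG2.good K (chevG2.simple a.val) t) ∧
    Rel ((triCtx K).om a t) (xg DataG2.good K (chevG2.neg (chevG2.simple a.val)) t) := by
  have h4 : ∀ r < chevD4.nroots, ((gx DataD4.good K r t : GL chevD4.Idx K) : Matrix chevD4.Idx chevD4.Idx K) =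
      xR chevD4 K r t := fun r hr => by rw [coe_gx, x_eq_xR chevD4 hr]
  have h2 : ∀ r < chevG2.nroots, ((xg DataG2.good K r t : GL chevG2.Idx K) : Matrix chevG2.Idx chevG2.Idx K) =
      xR chevG2 K r t := fun r hr => by rw [ChevBN.coe_xg, x_eq_xR chevG2 hr]
  obtain ⟨s0, s1, n0, n1⟩ := g2_simple
  rw [(op_prod a t).1, (op_prod a t).2]
  fin_cases a
  · constructor
    · show _ = _
      simp only [List.getD_cons_zero, List.map_cons, List.map_nil, List.prod_cons, List.prod_nil, mul_one,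
        Units.val_mul, ← mul_assoc]
      rw [h4 18 (by decide), h4 13 (by decide), h4 12 (by decide), s0, h2 7 (by decide)]
      exact rel_three DataD4.good DataG2.good pEmb (by decide) (by decide) (by decide) (by decide)
        commute_short_pos.1 commute_short_pos.2.1 commute_short_pos.2.2 rel_adE_short_pos t
    · show _ = _
      simp only [List.getD_cons_zero, List.map_cons, List.map_nil, List.prod_cons, List.prod_nil, mul_one,
        Units.val_mul, ← mul_assoc]
      rw [h4 5 (by decide), h4 10 (by decide), h4 11 (by decide), s0, n0, h2 4 (by decide)]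
      exact rel_three DataD4.good DataG2.good pEmb (by decide) (by decide) (by decide) (by decide)
        commute_short_neg.1 commute_short_neg.2.1 commute_short_neg.2.2 rel_adE_short_neg t
  · constructor
    · show _ = _
      simp only [List.getD_cons_succ, List.getD_cons_zero, List.map_cons, List.map_nil, List.prod_cons,
        List.prod_nil, mul_one]
      rw [h4 14 (by decide), s1, h2 6 (by decide)]
      exact rel_one DataD4.good DataG2.good pEmb (by decide) (by decide) rel_adE_long_pos t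
    · show _ = _
      simp only [List.getD_cons_succ, List.getD_cons_zero, List.map_cons, List.map_nil, List.prod_cons,
        List.prod_nil, mul_one]
      rw [h4 9 (by decide), s1, n1, h2 5 (by decide)]
      exact rel_one DataD4.good DataG2.good pEmb (by decide) (by decide) rel_adE_long_neg t

theorem rel_ns (a : Fin 2) (t : K) :
    Rel ((triCtx K).ns a t) (ng DataG2.good K (chevG2.simple a.val) t) := by
  rw [(triCtx K).ns_eq]
  exact ((rel_op a t).1.mul (rel_op a _).2).mul (rel_op a t).1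

/-! ### Roots -/

/-- The root of G₂ below a root of D₄. -/
def fG (r : ℕ) : ℕ :=
  ([0, 1, 2, 2, 3, 4, 2, 3, 3, 5, 4, 4, 7, 7, 6, 8, 8, 9, 7, 8, 9, 9, 10, 11] : List ℕ).getD r 0

theorem fG_tables :
    (∀ r < 24, fG r < 12 ∧ fG (d4Twist.rho r) = fG r ∧ (chevG2.IsPosRoot (fG r) ↔ 0 < d4Twist.ht r) ∧
      ∀ a : Fin 2, fG (wF d4Twist (d4Node a) r) = wN chevG2 a.val (fG r)) ∧
    ∀ a : Fin 2, fG (chevD4.simple (d4Node a).val) = chevG2.simple a.val := by
  decide +kernel

theorem fG_repOf {q : ℕ} (hq : q < 24) : fG ((triCtx K).repOf q) = fG q := by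
  obtain ⟨h1, i, -, e⟩ := (triCtx K).repOf_spec (q := q) hq
  have hr := (d4Twist_ok.rep_lt _ h1).1
  have : ∀ i, fG (d4Twist.rho^[i] ((triCtx K).repOf q)) = fG ((triCtx K).repOf q) := fun i => by
    induction i with
    | zero => rfl
    | succ i ih =>
      rw [Function.iterate_succ_apply', (fG_tables.1 _ (d4Twist_ok.iter_lt hr i)).2.1, ih]
  conv_rhs => rw [← e, this]

/-- The root data of G₂. -/
abbrev R2 (K : Type*) [Field K] : RGD.RootData (GL chevG2.Idx K) (Fin chevG2.nroots) (Fin chevG2.rank) :=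
  chevRGD DataG2.good ChevBN.rootsG2 K

theorem Uo_le_Pre : ∀ (n : ℕ) (r : (triCtx K).Orb), 0 < d4Twist.ht r.1 → (d4Twist.ht r.1).toNat ≤ n →
    (triCtx K).Uo r.1 ≤ Pre (chevG2.rootSubgroup K (fG r.1)) := by
  intro n
  induction n with
  | zero => intro r h1 h2; omega
  | succ n ih =>
    intro r hr hrn g hg
    rcases (triCtx K).hR.reach r.1 r.2 hr with ⟨a, ha⟩ | ⟨a, h1, h2⟩
    · rw [ha] at hg
      obtain ⟨t, -, rfl⟩ := (triCtx K).mem_Uo ((triCtx K).hR.rep_simple a) hg
      rw [← (triCtx K).op_eq]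
      refine ⟨_, ?_, (rel_op a t).1⟩
      rw [ha, show fG (chevD4.simple (d4Node a).val) = chevG2.simple a.val from fG_tables.2 a]
      exact ChevBN.xg_mem_rootSubgroup DataG2.good _ _
    · have hlt : r.1 < 24 := (triCtx K).orb_lt r
      have hwlt : wF d4Twist (d4Node a) r.1 < 24 := (triCtx K).wF_lt a hlt
      set s := (triCtx K).rgd.w a r with hs
      have hsval : s.1 = (triCtx K).repOf (wF d4Twist (d4Node a) r.1) := rfl
      have hht : d4Twist.ht s.1 = d4Twist.ht (wF d4Twist (d4Node a) r.1) := (triCtx K).ht_repOf hwlt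
      have h2' : d4Twist.ht (wF d4Twist (d4Node a) r.1) < d4Twist.ht r.1 := h2
      have hns := ih s (by rw [hht]; exact h1) (by rw [hht]; omega)
      have hU := (triCtx K).rgd.map_conj_n a s
      rw [hs, (triCtx K).rgd.w_w] at hU
      obtain ⟨x, hx, rfl⟩ := hU.symm.le (show g ∈ (triCtx K).rgd.U r from hg)
      obtain ⟨y, hy, hxy⟩ := hns hx
      refine ⟨(R2 K).n a * y * ((R2 K).n a)⁻¹, ?_, ((rel_ns a 1).mul hxy).mul (rel_ns a 1).inv⟩
      have hf : fG s.1 = wN chevG2 a.val (fG r.1) := by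
        rw [hsval, fG_repOf hwlt]; exact (fG_tables.1 r.1 hlt).2.2.2 a
      rw [hf] at hy
      have h3 := (R2 K).conj_U_mem ((R2 K).map_conj_n a
        ((R2 K).w a ⟨fG r.1, (fG_tables.1 r.1 hlt).1⟩)) hy
      exact (congrArg (R2 K).U ((R2 K).w_w a ⟨fG r.1, (fG_tables.1 r.1 hlt).1⟩)).le h3

theorem rel_mem_H0 {g : GL chevD4.Idx K} (hg : g ∈ (triCtx K).H0) :
    g ∈ Pre (chevG2.diagonalSubgroup K) := by
  obtain ⟨x, hx, rfl⟩ := hg
  have hval : ∀ (a : Fin 2) k, x ((triCtx K).nd a k) = x (d4Node a) := by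
    intro a k
    induction k with
    | zero => rfl
    | succ k ih =>
      rw [show (triCtx K).nd a (k + 1) = d4Twist.pi ((triCtx K).nd a k) by
        simp only [Ctx.nd, Function.iterate_succ_apply'], hx, ih]
      rfl
  have e : x = ∏ a, (triCtx K).torVec a (x (d4Node a)) := by
    funext i
    obtain ⟨b, l, hl, rfl⟩ := (triCtx K).nd_surj i
    rw [Finset.prod_apply, Finset.prod_eq_single b]
    · rw [(triCtx K).torVec_apply b b _ hl, if_pos rfl, hval]
      exact Units.ext (by rw [Ctx.coe_itU]; exact (Function.iterate_fixed rfl l).symm)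
    · intro a _ hab; rw [(triCtx K).torVec_apply a b _ hl, if_neg hab]
    · simp
  rw [e]
  show _ ∈ (Pre (chevG2.diagonalSubgroup K)).comap (theta chevD4 K)
  refine Subgroup.prod_mem _ fun a _ => ?_
  show theta chevD4 K ((triCtx K).torVec a (x (d4Node a))) ∈ Pre (chevG2.diagonalSubgroup K)
  rw [show x (d4Node a) = x (d4Node a) * (-(-1 : Kˣ))⁻¹ by simp, ← (triCtx K).ns_mul_ns]
  refine ⟨_, ?_, (rel_ns a _).mul (rel_ns a _)⟩
  refine ChevBN.ng_mul_mem DataG2.good _ ?_ (x (d4Node a)).ne_zero (-1 : Kˣ).ne_zero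
  exact DataG2.good.simple_lt a.val a.isLt

theorem B_le_Pre : (triCtx K).rgd.B ≤ Pre (R2 K).B := by
  refine sup_le ((triCtx K).rgd.span_le fun r hr g hg => ?_) fun g hg => ?_
  · obtain ⟨h, hh, hr'⟩ := Uo_le_Pre _ r hr le_rfl hg
    refine ⟨h, ?_, hr'⟩
    exact ((R2 K).U_le_B_iff ⟨fG r.1, (fG_tables.1 r.1 ((triCtx K).orb_lt r)).1⟩).2
      ((fG_tables.1 r.1 ((triCtx K).orb_lt r)).2.2.1.2 hr) hh
  · obtain ⟨h, hh, hr'⟩ := rel_mem_H0 hg
    exact ⟨h, (R2 K).H_le_B hh, hr'⟩

theorem rel_nw : ∀ l : List (Fin 2), Rel ((triCtx K).rgd.nw l) ((R2 K).nw l)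
  | [] => Rel.one
  | a :: l => (rel_ns a 1).mul (rel_nw l)

theorem ww_fG (l : List (Fin 2)) {r : ℕ} (hr : r < 24) :
    wW d4Twist d4Node l r < 24 ∧
      ((R2 K).ww l ⟨fG r, (fG_tables.1 r hr).1⟩).val = fG (wW d4Twist d4Node l r) := by
  induction l with
  | nil => exact ⟨hr, rfl⟩
  | cons a l ih =>
    refine ⟨(triCtx K).wF_lt a ih.1, ?_⟩
    show wN chevG2 a.val ((R2 K).ww l _).val = fG (wF d4Twist (d4Node a) (wW d4Twist d4Node l r))
    rw [ih.2, (fG_tables.1 _ ih.1).2.2.2 a]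

theorem ker_le_borel {g : GL chevD4.Idx K} (hg : g ∈ (triCtx K).G0) (h1 : Rel g 1) : g ∈ (triCtx K).rgd.B := by
  rw [← (triCtx K).rgd_G] at hg
  obtain ⟨b, hb, l, u, hu, rfl⟩ := (triCtx K).rgd.exists_normalForm hg
  have huB := (triCtx K).rgd.Upos_le_B ((triCtx K).rgd.Uminus_le_Upos l hu)
  obtain ⟨b', hb', rb⟩ := B_le_Pre hb
  obtain ⟨u', hu', ru⟩ := B_le_Pre huB
  have e := ((rb.mul (rel_nw l)).mul ru).unique h1
  have hnB : (R2 K).nw l ∈ (R2 K).B := by
    rw [show (R2 K).nw l = b'⁻¹ * (b' * (R2 K).nw l * u') * u'⁻¹ by group, e, mul_one]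
    exact mul_mem (inv_mem hb') (inv_mem hu')
  have hpos := ((R2 K).mem_H_iff l).1 (((R2 K).nw_mem_B_iff l).1 hnB)
  have hlH : (triCtx K).rgd.nw l ∈ (triCtx K).rgd.H := by
    rw [(triCtx K).nw_mem_H_iff]
    intro r hr hrp
    have hr24 : r < 24 := (d4Twist_ok.rep_lt r hr).1
    obtain ⟨hlt, e2⟩ := ww_fG (K := K) l hr24
    have h3 := hpos ⟨fG r, (fG_tables.1 r hr24).1⟩ ((fG_tables.1 r hr24).2.2.1.2 hrp)
    exact (fG_tables.1 _ hlt).2.2.1.1 (e2 ▸ h3)
  exact mul_mem (mul_mem hb ((triCtx K).rgd.H_le_B hlH)) huB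

/-! ### The isomorphism -/

theorem G0_le_Pre : (triCtx K).G0 ≤ Pre (chevG2.group K) := by
  refine (Subgroup.closure_le _).2 ?_
  rintro g ⟨a, t, -, rfl | rfl⟩
  · exact ⟨_, ChevBN.xg_mem_group DataG2.good _ _, (rel_op a t).1⟩
  · exact ⟨_, ChevBN.xg_mem_group DataG2.good _ _, (rel_op a t).2⟩

theorem nonempty_iso : Nonempty (↥(triCtx K).G0 ≃* ↥(chevG2.group K)) := by
  classical
  choose f hf hrel using fun g : ↥(triCtx K).G0 => G0_le_Pre g.2
  let ψ : ↥(triCtx K).G0 →* ↥(chevG2.group K) :=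
    { toFun := fun g => ⟨f g, hf g⟩
      map_one' := Subtype.ext ((hrel 1).unique Rel.one)
      map_mul' := fun g g' => Subtype.ext ((hrel (g * g')).unique ((hrel g).mul (hrel g'))) }
  refine ⟨MulEquiv.ofBijective ψ ⟨?_, fun y => ?_⟩⟩
  · rw [← MonoidHom.ker_eq_bot_iff, eq_bot_iff]
    have hle : ψ.ker ≤ (chevD4.borelSubgroup K ⊓ (triCtx K).G0).subgroupOf (triCtx K).G0 := by
      intro g hg
      have h1 : f g = 1 := congrArg Subtype.val (hg : ψ g = 1)
      have h2 := ker_le_borel g.2 (h1 ▸ hrel g)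
      rw [← (triCtx K).borel_inf_G0] at h2
      exact h2
    exact (Subgroup.normal_le_normalCore.2 hle).trans
      ((triCtx K).normalCore_eq_bot ChevBN.rootsD4 d4_cartan d4_long rfl).le
  · obtain ⟨h, hh⟩ := y
    have key : chevG2.group K ≤ ψ.range.map (chevG2.group K).subtype := by
      refine group_le_of_simple DataG2.good ChevBN.rootsG2 fun i t => ?_
      have hPm : ∀ a, (triCtx K).Pm a t := fun a => Function.iterate_fixed rfl _
      refine ⟨⟨ψ ⟨_, (triCtx K).op_mem_G0 i (hPm i)⟩, ⟨_, rfl⟩, ?_⟩,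
        ⟨ψ ⟨_, (triCtx K).om_mem_G0 i (hPm i)⟩, ⟨_, rfl⟩, ?_⟩⟩
      · exact (hrel _).unique (rel_op i t).1
      · exact (hrel _).unique (rel_op i t).2
    obtain ⟨y, ⟨g, rfl⟩, e⟩ := key hh
    exact ⟨g, Subtype.ext e⟩

end Cfsg.Agent.TrialityFix
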