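/-
The centraliser of the standard triality of D₄ is G₂.

* `torus_mem_G0`, `fixed_eq_G0`, `centraliser_iso`.
-/
import Cfsg.Agent.Lib.TrialityFix.Embed
import Cfsg.Agent.Lib.ChevOrder.CardH
import Cfsg.Prelude.Def_ChevAutomorphisms

set_option autoImplicit false
set_option maxRecDepth 100000

namespace Cfsg.Agent.TrialityFix

open Cfsg.Lie Cfsg.Lie.ChevalleyDatum Cfsg.Agent.Chev Cfsg.Agent.TwistE6D4 Matrix
open Cfsg.Agent.ChevBN (ng hg xg dg wN)

variable {K : Type*} [Field K]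

theorem exists_theta {D : ChevalleyDatum} (hD : Good D) {h : GL D.Idx K} (hh : h ∈ D.diagonalSubgroup K) :
    ∃ x, theta D K x = h := by
  obtain ⟨x, rfl⟩ := (ChevOrder.torusHom_range (F := K) hD).ge hh
  exact ⟨x, Units.ext rfl⟩

theorem chiX_of_fixed {D : ChevalleyDatum} {T : Twist D} (hT : TwistOK T) {x : Fin D.rank → Kˣ}
    (h : theta D K x ∈ Fix hT (RingHom.id K)) {s : ℕ} (hs : s < D.nroots) :
    chiX x (T.rho s) = chiX x s := by
  have h1 : pUnit hT K * Matrix.GeneralLinearGroup.map (RingHom.id K) (theta D K x) = theta D K x * pUnit hT K :=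
    mul_inv_eq_iff_eq_mul.1 h
  have h2 := congrArg (fun g : GL D.Idx K =>
    (g : Matrix D.Idx D.Idx K) (iota hT (Sum.inr ⟨s, hs⟩)) (Sum.inr ⟨s, hs⟩)) h1
  simp only [Units.val_mul] at h2
  change ((pMat hT).map (Int.cast : ℤ → K) * (dg (chiX x) : Matrix D.Idx D.Idx K).map (RingHom.id K))
      (iota hT (Sum.inr ⟨s, hs⟩)) (Sum.inr ⟨s, hs⟩) =
    ((dg (chiX x) : Matrix D.Idx D.Idx K) * (pMat hT).map (Int.cast : ℤ → K))
      (iota hT (Sum.inr ⟨s, hs⟩)) (Sum.inr ⟨s, hs⟩) at h2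
  simp only [dg, RingHom.coe_id, Matrix.map_id, Matrix.mul_diagonal, Matrix.diagonal_mul] at h2
  simp [pMat, iota, TwistE6D4.sgn] at h2
  have he : (T.eps s : K) ≠ 0 := left_ne_zero_of_mul_eq_one (hT.eps_cast_sq hs)
  refine Units.ext ?_
  exact mul_left_cancel₀ he ((mul_comm _ _).trans h2.symm)

theorem sym_param {G : Type*} [CommGroup G] (a b c : G) (h2 : b * b = a * a) (h3 : c * c = a * a) :
    (b * c * a⁻¹) * (b * c * a⁻¹) = a * a ∧
      (b * c * a⁻¹) * (b * c * a⁻¹) * (b * c * a⁻¹) = a * b * c := by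
  have e : (b * c * a⁻¹) * (b * c * a⁻¹) = a * a := by
    rw [show (b * c * a⁻¹) * (b * c * a⁻¹) = (b * b) * (c * c) * (a * a)⁻¹ by
      rw [_root_.mul_inv_rev]; ac_rfl, h2, h3, mul_inv_cancel_right]
  refine ⟨e, ?_⟩
  rw [e, show a * a * (b * c * a⁻¹) = a * (a⁻¹ * a) * b * c by ac_rfl, inv_mul_cancel, mul_one]

theorem torus_mem_G0 {h : GL chevD4.Idx K} (hh : h ∈ chevD4.diagonalSubgroup K)
    (hf : h ∈ Fix d4Twist_ok (RingHom.id K)) : h ∈ (triCtx K).G0 := by
  obtain ⟨x, rfl⟩ := exists_theta DataD4.good hh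
  have hrho : d4Twist.rho (chevD4.simple 0) = chevD4.simple 2 ∧
      d4Twist.rho (chevD4.simple 2) = chevD4.simple 3 := by decide +kernel
  let y : Fin 4 → Kˣ := x
  have hχ : ∀ (z : Fin 4 → Kˣ) (i : Fin 4), chiX (D := chevD4) z (chevD4.simple i.val) =
      ∏ j : Fin 4, z j ^
        ((([[2, -1, 0, 0], [-1, 2, -1, -1], [0, -1, 2, 0], [0, -1, 0, 2]] : List (List ℤ)).getD i.val []).getD
          j.val 0) := fun z i => by
    show ∏ j : Fin 4, z j ^ chevD4.cartan j.val (chevD4.simple i.val) = _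
    refine Finset.prod_congr rfl fun j _ => ?_
    rw [d4_cartan_simple]
  have e0 := chiX_of_fixed d4Twist_ok hf (DataD4.good.simple_lt 0 (by decide))
  have e2 := chiX_of_fixed d4Twist_ok hf (DataD4.good.simple_lt 2 (by decide))
  rw [hrho.1] at e0
  rw [hrho.2] at e2
  rw [show chiX x (chevD4.simple 2) = _ from hχ y 2, show chiX x (chevD4.simple 0) = _ from hχ y 0] at e0
  rw [show chiX x (chevD4.simple 3) = _ from hχ y 3, show chiX x (chevD4.simple 2) = _ from hχ y 2] at e2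
  simp [Fin.prod_univ_four, _root_.zpow_ofNat, pow_two, mul_comm ((y 1)⁻¹)] at e0 e2
  obtain ⟨hc2, hc3⟩ := sym_param (y 0) (y 2) (y 3) e0 (e2.trans e0)
  set c := y 2 * y 3 * (y 0)⁻¹ with hc
  let z : Fin 4 → Kˣ := ![c, y 1, c, c]
  let z' : Fin chevD4.rank → Kˣ := z
  have hz : z' ∈ TorSym d4Twist (RingHom.id K) := by
    show ∀ i : Fin 4, z (d4Twist.pi i) = Units.map ((RingHom.id K : K →+* K) : K →* K) (z i)
    intro i
    fin_cases i <;> exact Units.ext rfl
  have heq : theta chevD4 K x = theta chevD4 K z' := by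
    rw [← inv_mul_eq_one, ← map_inv, ← map_mul]
    refine (mem_ker_theta DataD4.good d4_cartan _).2 fun i => ?_
    have h4 : chiX (x⁻¹ * z') (chevD4.simple i.val) = _ := hχ (y⁻¹ * z) i
    rw [h4]
    fin_cases i <;> simp [z, Fin.prod_univ_four, _root_.zpow_ofNat, pow_two]
    · calc _ = (y 0 * y 0)⁻¹ * (c * c) := by rw [_root_.mul_inv_rev]; ac_rfl
        _ = 1 := by rw [hc2, inv_mul_cancel]
    · calc _ = y 0 * y 2 * y 3 * (c * c * c)⁻¹ := by simp only [_root_.mul_inv_rev, inv_inv]; ac_rfl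
        _ = 1 := by rw [hc3, mul_inv_cancel]
    · calc _ = (y 2 * y 2)⁻¹ * (c * c) := by rw [_root_.mul_inv_rev]; ac_rfl
        _ = 1 := by rw [hc2, e0, inv_mul_cancel]
    · calc _ = (y 3 * y 3)⁻¹ * (c * c) := by rw [_root_.mul_inv_rev]; ac_rfl
        _ = 1 := by rw [hc2, e2.trans e0, inv_mul_cancel]
  rw [heq]
  exact (triCtx K).theta_mem_G0 hz

theorem foldOK : FoldOK (triCtx K) where
  wN_rho := by
    show ∀ i : Fin 4, ∀ q < 24, wN chevD4 (d4Twist.pi i).val (d4Twist.rho q) = d4Twist.rho (wN chevD4 i.val q)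
    decide +kernel
  wN_orbit := by
    show ∀ a : Fin 2, ∀ k < d4Twist.len (chevD4.simple (d4Node a).val),
      ∀ l < d4Twist.len (chevD4.simple (d4Node a).val), k ≠ l →
        wN chevD4 (d4Twist.pi^[k] (d4Node a)).val (chevD4.simple (d4Twist.pi^[l] (d4Node a)).val) =
          chevD4.simple (d4Twist.pi^[l] (d4Node a)).val
    decide +kernel

theorem fixed_eq_G0 : chevD4.group K ⊓ Fix d4Twist_ok (RingHom.id K) = (triCtx K).G0 :=
  le_antisymm (fun _ hg => fixed_mem_G0 (triCtx K) ChevBN.rootsD4 rfl foldOK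
      (fun _ => torus_mem_G0) hg.1 hg.2)
    (le_inf (triCtx K).G0_le_group (triCtx K).G0_le_Fix)

theorem sigma_simple (i : Fin chevD4.rank) (t : K) :
    TwistE6D4.sigma d4Twist_ok (RingHom.id K) (xg DataD4.good K (chevD4.simple i.val) t) =
        xg DataD4.good K (chevD4.simple (d4Twist.pi i).val) t ∧
      TwistE6D4.sigma d4Twist_ok (RingHom.id K) (xg DataD4.good K (chevD4.neg (chevD4.simple i.val)) t) =
        xg DataD4.good K (chevD4.neg (chevD4.simple (d4Twist.pi i).val)) t := by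
  have hlt := DataD4.good.simple_lt i.val i.isLt
  have he := eps_simple (triCtx K) i
  have hs := d4Root_ok.simple_pi i
  constructor
  · rw [sigma_xg d4Twist_ok DataD4.good hlt, he, hs, Int.cast_one, one_mul]
  · rw [sigma_xg d4Twist_ok DataD4.good (DataD4.good.neg_lt _ hlt), d4Twist_ok.eps_neg _ hlt,
      d4Twist_ok.rho_neg _ hlt, he, hs, Int.cast_one, one_mul]

theorem perm_cases : ∀ π : Equiv.Perm (Fin 4),
    (∀ i j : Fin 4, i ≠ j → chevD4.bonds (π i).val (π j).val = chevD4.bonds i.val j.val) →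
    (∀ i : Fin 4, π (π i) = i) ∨ (∀ i : Fin 4, π i = (![2, 1, 3, 0] : Fin 4 → Fin 4) i) ∨
      ∀ i : Fin 4, π ((![2, 1, 3, 0] : Fin 4 → Fin 4) i) = i := by
  decide +kernel

theorem graphExp_one (c : ℕ) : ∀ i j : Fin chevD4.rank, chevD4.graphExp c i.val j.val = 1 := by
  have h : ∀ j : Fin 4, chevD4.isLong (chevD4.simple j.val) = false := by decide +kernel
  intro i j
  have hj : chevD4.isLong (chevD4.simple j.val) = false := h j
  simp [ChevalleyDatum.graphExp, hj]

/-- The value of an automorphism on fundamental root elements determines it. -/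
theorem eq_sigma (θ : MulAut ↥(chevD4.group K))
    (h : ∀ (i : Fin chevD4.rank) (t : K),
      (θ ⟨xg DataD4.good K (chevD4.simple i.val) t, ChevBN.xg_mem_group _ _ _⟩ : GL chevD4.Idx K) =
          xg DataD4.good K (chevD4.simple (d4Twist.pi i).val) t ∧
        (θ ⟨xg DataD4.good K (chevD4.neg (chevD4.simple i.val)) t, ChevBN.xg_mem_group _ _ _⟩ : GL chevD4.Idx K) =
          xg DataD4.good K (chevD4.neg (chevD4.simple (d4Twist.pi i).val)) t) (g : ↥(chevD4.group K)) :
    (θ g : GL chevD4.Idx K) = TwistE6D4.sigma d4Twist_ok (RingHom.id K) g := by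
  obtain ⟨g, hg⟩ := g
  have hle : chevD4.group K ≤
      (((chevD4.group K).subtype.comp θ.toMonoidHom).eqLocus
        ((TwistE6D4.sigma d4Twist_ok (RingHom.id K)).comp (chevD4.group K).subtype)).map
          (chevD4.group K).subtype :=
    group_le_of_simple DataD4.good ChevBN.rootsD4 fun i t =>
      ⟨⟨⟨_, ChevBN.xg_mem_group _ _ _⟩, (h i t).1.trans (sigma_simple i t).1.symm, rfl⟩,
        ⟨⟨_, ChevBN.xg_mem_group _ _ _⟩, (h i t).2.trans (sigma_simple i t).2.symm, rfl⟩⟩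
  obtain ⟨⟨y, hy⟩, hyl, e⟩ := hle hg
  subst e
  exact hyl

theorem iso_of_sigma (θ : MulAut ↥(chevD4.group K))
    (h : ∀ g : ↥(chevD4.group K), (θ g : GL chevD4.Idx K) = TwistE6D4.sigma d4Twist_ok (RingHom.id K) g) :
    Nonempty (↥(MonoidHom.eqLocus θ.toMonoidHom (MonoidHom.id ↥(chevD4.group K))) ≃* ↥(chevG2.group K)) := by
  obtain ⟨e⟩ := nonempty_iso (K := K)
  refine ⟨MulEquiv.trans ?_ ((MulEquiv.subgroupCongr fixed_eq_G0).trans e)⟩
  refine
    { toFun := fun g => ⟨((g.1 : ↥(chevD4.group K)) : GL chevD4.Idx K), g.1.2, ?_⟩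
      invFun := fun g => ⟨⟨g.1, g.2.1⟩, ?_⟩
      left_inv := fun g => rfl
      right_inv := fun g => rfl
      map_mul' := fun g g' => rfl }
  · exact (h g.1).symm.trans (congrArg Subtype.val (show θ g.1 = g.1 from g.2))
  · exact Subtype.ext ((h ⟨g.1, g.2.1⟩).trans g.2.2)

theorem centraliser_iso (τ : MulAut ↥(chevD4.group K)) (hτ : chevD4.IsGraphAut τ) (hτ3 : orderOf τ = 3) :
    Nonempty (↥(MonoidHom.eqLocus τ.toMonoidHom (MonoidHom.id ↥(chevD4.group K))) ≃* ↥(chevG2.group K)) := by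
  obtain ⟨π, hπ, hval⟩ := hτ
  set xp := fun (i : Fin chevD4.rank) (t : K) =>
    (⟨xg DataD4.good K (chevD4.simple i.val) t, ChevBN.xg_mem_group _ _ _⟩ : ↥(chevD4.group K)) with hxp
  set xm := fun (i : Fin chevD4.rank) (t : K) =>
    (⟨xg DataD4.good K (chevD4.neg (chevD4.simple i.val)) t, ChevBN.xg_mem_group _ _ _⟩ :
      ↥(chevD4.group K)) with hxm
  have hp : ∀ i t, τ (xp i t) = xp (π i) t ∧ τ (xm i t) = xm (π i) t := by
    intro i t
    have h1 := (hval (xp i t) i t).1 rfl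
    have h2 := (hval (xm i t) i t).2 rfl
    rw [graphExp_one, pow_one] at h1 h2
    exact ⟨Subtype.ext (Units.ext h1), Subtype.ext (Units.ext h2)⟩
  rcases perm_cases π hπ with h | h | h
  · exfalso
    replace h : ∀ i : Fin chevD4.rank, π (π i) = i := h
    have hle : chevD4.group K ≤ ((τ * τ).toMonoidHom.eqLocus (MonoidHom.id _)).map (chevD4.group K).subtype :=
      group_le_of_simple DataD4.good ChevBN.rootsD4 fun i t =>
        ⟨⟨xp i t, show τ (τ (xp i t)) = xp i t by rw [(hp i t).1, (hp (π i) t).1, h], rfl⟩,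
          ⟨xm i t, show τ (τ (xm i t)) = xm i t by rw [(hp i t).2, (hp (π i) t).2, h], rfl⟩⟩
    have h2 : τ * τ = 1 := by
      refine MulEquiv.ext fun g => ?_
      obtain ⟨y, hy, e⟩ := hle g.2
      obtain rfl := Subtype.ext e
      exact hy
    have h3 := orderOf_dvd_of_pow_eq_one ((pow_two τ).trans h2)
    rw [hτ3] at h3
    norm_num at h3
  · replace h : ∀ i : Fin chevD4.rank, π i = d4Twist.pi i := h
    refine iso_of_sigma τ (eq_sigma τ fun i t => ?_)
    have e := hp i t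
    rw [h] at e
    exact ⟨congrArg Subtype.val e.1, congrArg Subtype.val e.2⟩
  · replace h : ∀ i : Fin chevD4.rank, π (d4Twist.pi i) = i := h
    have hinv : MonoidHom.eqLocus τ.toMonoidHom (MonoidHom.id ↥(chevD4.group K)) =
        MonoidHom.eqLocus τ⁻¹.toMonoidHom (MonoidHom.id ↥(chevD4.group K)) := by
      ext g
      constructor
      · intro hg
        show τ⁻¹ g = g
        rw [MulAut.inv_apply, MulEquiv.symm_apply_eq]
        exact (show τ g = g from hg).symm
      · intro hg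
        show τ g = g
        have hg' : τ⁻¹ g = g := hg
        rw [MulAut.inv_apply, MulEquiv.symm_apply_eq] at hg'
        exact hg'.symm
    obtain ⟨e⟩ := iso_of_sigma τ⁻¹ (eq_sigma τ⁻¹ fun i t => by
      have e := hp (d4Twist.pi i) t
      rw [h] at e
      constructor
      · exact congrArg Subtype.val (by rw [MulAut.inv_apply, MulEquiv.symm_apply_eq, e.1] :
          τ⁻¹ (xp i t) = xp (d4Twist.pi i) t)
      · exact congrArg Subtype.val (by rw [MulAut.inv_apply, MulEquiv.symm_apply_eq, e.2] :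
          τ⁻¹ (xm i t) = xm (d4Twist.pi i) t))
    exact ⟨(MulEquiv.subgroupCongr hinv).trans e⟩

end Cfsg.Agent.TrialityFix
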