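/-
A Chevalley group is generated by the root elements of the fundamental roots and their negatives.

* `group_le_of_simple`, `group_eq_closure_simple`.
-/
import Cfsg.Agent.Lib.ChevBN.Instance

set_option autoImplicit false

namespace Cfsg.Agent.TrialityFix

open Cfsg.Lie Cfsg.Lie.ChevalleyDatum Cfsg.Agent.Chev Cfsg.Agent.ChevBN Cfsg.Agent.ChevSt

variable {D : ChevalleyDatum} {M : List (List ℤ)} {d : ℤ} {F : Type*} [Field F]

theorem group_le_of_simple (hD : Good D) (hR : Roots D M d) {S : Subgroup (GL D.Idx F)}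
    (h : ∀ (i : Fin D.rank) (t : F),
      xg hD F (D.simple i.val) t ∈ S ∧ xg hD F (D.neg (D.simple i.val)) t ∈ S) :
    D.group F ≤ S := by
  have key : ∀ q, q < D.nroots → D.IsPosRoot q →
      ∀ t : F, xg hD F q t ∈ S ∧ xg hD F (D.neg q) t ∈ S := by
    intro q hq hp
    refine hR.pos_induction hD (P := fun q => ∀ t : F, xg hD F q t ∈ S ∧ xg hD F (D.neg q) t ∈ S)
      (fun i hi t => h ⟨i, hi⟩ t) (fun i hi p hp ih t => ?_) hq hp
    have hn : ng hD F (D.simple i) 1 ∈ S :=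
      mul_mem (mul_mem (h ⟨i, hi⟩ 1).1 (h ⟨i, hi⟩ (-1⁻¹)).2) (h ⟨i, hi⟩ 1).1
    have hs : ∀ s < D.nroots, (nSign D (D.simple i) s : F) ≠ 0 := fun s hs => by
      rcases (nSign_cases hD (hD.simple_lt i hi) hs).1 with e | e <;> simp [e]
    refine ⟨?_, ?_⟩
    · have h2 := mul_mem (mul_mem hn (ih ((nSign D (D.simple i) p : F)⁻¹ * t)).1) (inv_mem hn)
      rwa [ng_conj_xg hD hi hp, ← mul_assoc, mul_inv_cancel₀ (hs p hp), one_mul] at h2
    · have h2 := mul_mem (mul_mem hn (ih ((nSign D (D.simple i) (D.neg p) : F)⁻¹ * t)).2) (inv_mem hn)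
      rwa [ng_conj_xg hD hi (hD.neg_lt p hp), ← mul_assoc, mul_inv_cancel₀ (hs _ (hD.neg_lt p hp)), one_mul,
        hR.refl_neg hD hi hp] at h2
  refine (Subgroup.closure_le _).2 ?_
  rintro g ⟨r, t, e⟩
  obtain rfl : g = xg hD F r.val t := Units.ext (by rw [e]; simp [ChevalleyDatum.x])
  by_cases hp : D.IsPosRoot r.val
  · exact (key r.val r.isLt hp t).1
  · have h2 := (key _ (hD.neg_lt _ r.isLt) ((pos_or_neg hD r.isLt).2 hp) t).2
    rwa [hD.neg_neg _ r.isLt] at h2

theorem group_eq_closure_simple (hD : Good D) (hR : Roots D M d) :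
    D.group F = Subgroup.closure {g : GL D.Idx F | ∃ (i : Fin D.rank) (t : F),
      g = xg hD F (D.simple i.val) t ∨ g = xg hD F (D.neg (D.simple i.val)) t} := by
  refine le_antisymm (group_le_of_simple hD hR fun i t =>
    ⟨Subgroup.subset_closure ⟨i, t, Or.inl rfl⟩, Subgroup.subset_closure ⟨i, t, Or.inr rfl⟩⟩)
    ((Subgroup.closure_le _).2 ?_)
  rintro g ⟨i, t, rfl | rfl⟩ <;> exact xg_mem_group hD _ _

end Cfsg.Agent.TrialityFix
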